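import Groth.Agent.H9Hens.FinitePartScheme
import Groth.Agent.H9Hens.Pair
import Groth.Agent.H9Hens.Idem

/-!
The finite part of a quasi-finite separated scheme over a henselian pair.
-/

set_option autoImplicit false
set_option linter.style.haveILetI false
set_option backward.isDefEq.respectTransparency false

universe u

open CategoryTheory Limits AlgebraicGeometry TopologicalSpace

namespace Groth.Agent.H13Hens

variable {R : Type u} [CommRing R] {I : Ideal R}

/-- In a scheme integral over a henselian pair, an open set meeting the closed subset in a closed set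
contains a clopen with the same trace. -/
theorem exists_clopen_subset_open_pair [HenselianRing R I] {N : Scheme.{u}}
    (π : N ⟶ Spec (CommRingCat.of R)) [IsIntegralHom π] (U : N.Opens)
    (hU : IsClosed {z : N | z ∈ U ∧ I ≤ (π.base z : PrimeSpectrum R).asIdeal}) :
    ∃ C : N.Opens, IsClosed (C : Set N) ∧ C ≤ U ∧
      ∀ z ∈ U, I ≤ (π.base z : PrimeSpectrum R).asIdeal → z ∈ C := by
  have : IsAffine N := isAffine_of_isAffineHom π
  let ψ : CommRingCat.of R ⟶ Γ(N, ⊤) := Spec.preimage (N.isoSpec.inv ≫ π)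
  have hψ : Spec.map ψ = N.isoSpec.inv ≫ π := Spec.map_preimage _
  have hint : ψ.hom.IsIntegral := by
    rw [← IsIntegralHom.SpecMap_iff, hψ]; infer_instance
  algebraize [ψ.hom]
  let w := Scheme.homeoOfIso N.isoSpec
  let B := Γ(N, ⊤)
  let J : Ideal B := I.map ψ.hom
  have hπw : ∀ z : PrimeSpectrum B, z ∈ PrimeSpectrum.zeroLocus (J : Set B) ↔
      I ≤ (π.base (w.symm z) : PrimeSpectrum R).asIdeal := fun z => by
    have h1 : π.base (w.symm z) = PrimeSpectrum.comap ψ.hom z := by
      change π.base (N.isoSpec.inv.base z) = (Spec.map ψ).base z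
      rw [hψ]; rfl
    rw [h1, PrimeSpectrum.mem_zeroLocus, SetLike.coe_subset_coe, Ideal.map_le_iff_le_comap]
    rfl
  have hhen : HenselianRing R I := inferInstance
  have hJjac : J ≤ Ideal.jacobson ⊥ := H9Hens.map_le_jacobson_of_isIntegral (B := B) hhen.jac
  let Z := PrimeSpectrum.zeroLocus (J : Set B)
  let j : Z → PrimeSpectrum B := Subtype.val
  have hj : Topology.IsClosedEmbedding j := (PrimeSpectrum.isClosed_zeroLocus _).isClosedEmbedding_subtypeVal
  let V : Set Z := {z | w.symm z.1 ∈ U}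
  have hV : IsClopen V := by
    refine ⟨?_, U.2.preimage (w.symm.continuous.comp continuous_subtype_val)⟩
    have h1 : V = (fun z : Z => w.symm z.1) ⁻¹' {z : N | z ∈ U ∧ I ≤ (π.base z : PrimeSpectrum R).asIdeal} :=
      Set.ext fun z => ⟨fun h => ⟨h, (hπw z.1).mp z.2⟩, fun h => h.1⟩
    rw [h1]
    exact hU.preimage (w.symm.continuous.comp continuous_subtype_val)
  obtain ⟨C, ⟨hC, hCV⟩, -⟩ := (H9Hens.clopen_lift_iff J j hj Subtype.range_coe).mpr (fun b hb => by
    obtain ⟨e, he, heb⟩ := H9Hens.exists_idem_lift_integral (I := I) (B := B) b hb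
    exact ⟨e, ⟨he, heb⟩, fun e' he' => H9Hens.idem_eq_of_sub_mem hJjac he'.1 he
      (by simpa using sub_mem he'.2 heb)⟩) V hV
  refine ⟨⟨w ⁻¹' C, hC.2.preimage w.continuous⟩, hC.1.preimage w.continuous, fun z hz => ?_, fun z hzU hz => ?_⟩
  · -- a closed point in the closure lies over the closed subset
    obtain ⟨M, hM, hle⟩ := Ideal.exists_le_maximal (w z).asIdeal (w z).isPrime.ne_top
    let m : PrimeSpectrum B := ⟨M, hM.isPrime⟩
    have hzm : w z ⤳ m := (PrimeSpectrum.le_iff_specializes _ _).mp hle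
    have hmZ : m ∈ Z := (PrimeSpectrum.mem_zeroLocus _ _).mpr fun b hb =>
      sInf_le (show M ∈ {K : Ideal B | ⊥ ≤ K ∧ K.IsMaximal} from ⟨bot_le, hM⟩) (hJjac hb)
    have hmC : m ∈ C := hzm.mem_closed hC.1 hz
    have hmV : (⟨m, hmZ⟩ : Z) ∈ j ⁻¹' C := hmC
    rw [hCV] at hmV
    have := (hzm.map w.symm.continuous).mem_open U.2 hmV
    rwa [w.symm_apply_apply] at this
  · have hzZ : w z ∈ Z := (hπw _).mpr (by rw [w.symm_apply_apply]; exact hz)
    have : (⟨w z, hzZ⟩ : Z) ∈ j ⁻¹' C := by
      rw [hCV]; exact (congrArg (· ∈ U) (w.symm_apply_apply z)).mpr hzU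
    exact this

/-- The finite part over a henselian pair. -/
theorem exists_finitePart_pair [HenselianRing R I] {X : Scheme.{u}}
    (f : X ⟶ Spec (CommRingCat.of R))
    [LocallyQuasiFinite f] [LocallyOfFiniteType f] [QuasiCompact f] [IsSeparated f]
    (hfin : IsFinite (pullback.snd f (Spec.map (CommRingCat.ofHom (Ideal.Quotient.mk I))))) :
    ∃ W : X.Opens, IsClosed (W : Set X) ∧ IsFinite (W.ι ≫ f) ∧
      ∀ x : X, x ∉ W → ¬ I ≤ (f.base x : PrimeSpectrum R).asIdeal := by
  let j := f.toNormalization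
  let π := f.fromNormalization
  have hjπ : j ≫ π = f := f.toNormalization_fromNormalization
  let i := Spec.map (CommRingCat.ofHom (Ideal.Quotient.mk I))
  have : IsClosedImmersion i := IsClosedImmersion.spec_of_surjective _ Ideal.Quotient.mk_surjective
  have hri : Set.range i.base = PrimeSpectrum.zeroLocus (I : Set R) := by
    refine (range_comap_of_surjective _ _ Ideal.Quotient.mk_surjective).trans ?_
    rw [Ideal.mk_ker]
  have : UniversallyClosed ((pullback.fst f i ≫ j) ≫ π) := by
    rw [Category.assoc, hjπ, pullback.condition]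
    infer_instance
  have : UniversallyClosed (pullback.fst f i ≫ j) :=
    UniversallyClosed.of_comp_of_isSeparated (pullback.fst f i ≫ j) π
  have hb : ∀ x, π.base (j.base x) = f.base x := fun x => by
    rw [← Scheme.Hom.comp_apply, hjπ]
  have hU : IsClosed {z | z ∈ j.opensRange ∧ I ≤ (π.base z : PrimeSpectrum R).asIdeal} := by
    have : {z | z ∈ j.opensRange ∧ I ≤ (π.base z : PrimeSpectrum R).asIdeal} =
        Set.range (pullback.fst f i ≫ j).base := by
      rw [Scheme.Hom.comp_base, TopCat.coe_comp, Set.range_comp, Scheme.Pullback.range_fst, hri]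
      ext z
      constructor
      · rintro ⟨⟨x, rfl⟩, hz⟩
        rw [hb] at hz
        exact ⟨x, (PrimeSpectrum.mem_zeroLocus _ _).mpr (SetLike.coe_subset_coe.mpr hz), rfl⟩
      · rintro ⟨x, hx, rfl⟩
        refine ⟨⟨x, rfl⟩, ?_⟩
        rw [hb]
        exact (SetLike.coe_subset_coe.mp ((PrimeSpectrum.mem_zeroLocus _ _).mp hx))
    rw [this]
    exact (pullback.fst f i ≫ j).isClosedMap.isClosed_range
  obtain ⟨C, hCcl, hCU, hCfib⟩ := exists_clopen_subset_open_pair π j.opensRange hU
  let W := j ⁻¹ᵁ C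
  refine ⟨W, hCcl.preimage j.continuous, ?_, fun x hx hI => hx (hCfib _ ⟨x, rfl⟩ (by rw [hb]; exact hI))⟩
  have hWC : IsClosedImmersion (W.ι ≫ j) := by
    refine IsClosedImmersion.of_isPreimmersion _ ?_
    rw [Scheme.Hom.comp_base, TopCat.coe_comp, Set.range_comp, Scheme.Opens.range_ι]
    show IsClosed (j.base '' (j.base ⁻¹' (C : Set _)))
    rw [Set.image_preimage_eq_of_subset (fun z hz => hCU hz)]
    exact hCcl
  rw [IsFinite.iff_isIntegralHom_and_locallyOfFiniteType]
  refine ⟨?_, inferInstance⟩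
  rw [← hjπ, ← Category.assoc]
  infer_instance

end Groth.Agent.H13Hens
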